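import Cfsg.Agent.S0713
import Cfsg.Agent.S0991
import Cfsg.Agent.Lib.Linear.SmallRec

/-! Two primes in `(n/2, n]` at distance at least three; groups containing a prime cycle with one or two
fixed points in degrees `6`, `7`, `13`. -/

set_option autoImplicit false

namespace Cfsg.Lib.Perm.TwoCyc

open Finset MulAction Equiv Equiv.Perm

theorem gap_large {n : ℕ} (hn : 512 ≤ n) :
    ∃ p q : ℕ, p.Prime ∧ q.Prime ∧ n < p ∧ p + 3 ≤ q ∧ q ≤ 2 * n := by
  obtain ⟨r0, hr0⟩ := Nat.exists_prime_lt_and_le_two_mul n (by omega)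
  classical
  have hex : ∃ r, r.Prime ∧ n < r ∧ r ≤ 2 * n := ⟨r0, hr0⟩
  obtain ⟨hr, h1, h2⟩ := Nat.find_spec hex
  have hmin : ∀ x, x.Prime → n < x → x ≤ 2 * n → Nat.find hex ≤ x := fun x a b c => Nat.find_min' hex ⟨a, b, c⟩
  generalize Nat.find hex = r at hr h1 h2 hmin
  by_contra! H
  let S := {p ∈ range (2 * n / 3 + 1) | Nat.Prime p}
  let T := {p ∈ Icc r (r + 2) | p ≤ 2 * n}
  let f x := x ^ n.centralBinom.factorization x
  have hf : ∀ x, f x ≤ 2 * n := fun x => Nat.pow_factorization_choose_le (by omega)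
  have h3 : n.centralBinom = (∏ x ∈ T, f x) * ∏ x ∈ S, f x := by
    rw [← prod_union (by
      rw [disjoint_left]; intro x hx hy
      simp only [S, T, mem_filter, mem_range, mem_Icc] at hx hy; omega), ← n.prod_pow_factorization_centralBinom]
    refine (prod_subset (fun x hx => ?_) fun x hx h => ?_).symm
    · simp only [S, T, mem_union, mem_filter, mem_range, mem_Icc] at hx ⊢
      omega
    by_cases hp : x.Prime
    · simp only [S, T, mem_union, mem_filter, mem_range, mem_Icc, hp, and_true, not_or] at hx h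
      have h4 : x ≤ n := by_contra fun h4 => by
        have h5 := hmin x hp (by omega) (by omega)
        have h6 := H r x hr hp h1
        omega
      simp only [Nat.factorization_centralBinom_of_two_mul_self_lt_three_mul (by omega : 2 < n) h4 (by omega), pow_zero]
    · simp only [Nat.factorization_eq_zero_of_not_prime _ hp, pow_zero]
  have h4 : 6 ≤ (2 * n).sqrt := Nat.le_sqrt.2 (by omega)
  have h5 : ∏ x ∈ S with x ≤ (2 * n).sqrt, f x ≤ (2 * n) ^ ((2 * n).sqrt - 3) := by
    refine (prod_le_prod' fun p _ => hf p).trans ?_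
    rw [prod_const]
    refine pow_right_mono₀ (by omega) ((card_le_card (t := ((Icc 2 (2 * n).sqrt).erase 4).erase 6) fun x hx => ?_).trans ?_)
    · have hp := (mem_filter.1 (mem_filter.1 hx).1).2
      refine mem_erase.2 ⟨?_, mem_erase.2 ⟨?_, mem_Icc.2 ⟨hp.two_le, (mem_filter.1 hx).2⟩⟩⟩
      · rintro rfl; norm_num at hp
      · rintro rfl; norm_num at hp
    · rw [card_erase_of_mem (by simp; omega), card_erase_of_mem (by simp; omega), Nat.card_Icc]; omega
  have h5' : ∏ x ∈ T, f x ≤ (2 * n) ^ 3 := by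
    refine (prod_le_prod' fun p _ => hf p).trans ?_
    rw [prod_const]
    exact pow_right_mono₀ (by omega) ((card_filter_le _ _).trans (by simp; omega))
  have h6 : ∏ x ∈ S with ¬ x ≤ (2 * n).sqrt, f x ≤ 4 ^ (2 * n / 3) := by
    refine le_trans ?_ (primorial_le_four_pow (2 * n / 3))
    refine (prod_le_prod' fun p hp => (?_ : f p ≤ p)).trans ?_
    · obtain ⟨h1, h2⟩ := mem_filter.1 hp
      refine (pow_right_mono₀ (mem_filter.1 h1).2.one_lt.le ?_).trans (pow_one p).le
      exact Nat.factorization_choose_le_one (Nat.sqrt_lt'.mp <| not_le.1 h2)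
    exact prod_le_prod_of_subset_of_one_le' (filter_subset _ _) fun p hp _ => (mem_filter.1 hp).2.one_lt.le
  have h7 := Nat.four_pow_lt_mul_centralBinom n (by omega)
  rw [h3, ← prod_filter_mul_prod_filter_not S (· ≤ (2 * n).sqrt)] at h7
  refine (h7.trans_le (le_trans ?_ (bertrand_main_inequality hn))).false
  rw [mul_assoc n, ← mul_assoc (∏ x ∈ T, f x), show (2 * n) ^ (2 * n).sqrt = (2 * n) ^ 3 * (2 * n) ^ ((2 * n).sqrt - 3) by
    rw [← pow_add]; congr 1; omega]
  gcongr

theorem gap {m : ℕ} (hm : 17 ≤ m) : ∃ p q : ℕ, p.Prime ∧ q.Prime ∧ m < 2 * p ∧ p + 3 ≤ q ∧ q ≤ m := by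
  by_cases h : m < 1024
  · have : ∀ n < 1024, 17 ≤ n → ∃ a ∈ [(11, 17), (13, 19), (17, 23), (23, 31), (37, 43), (61, 67), (113, 121 + 6), (103, 107),
      (199, 211), (389, 397), (727, 733)], n < 2 * a.1 ∧ a.2 ≤ n := by decide +kernel
    obtain ⟨a, ha, h1, h2⟩ := this m h hm
    have : a.1.Prime ∧ a.2.Prime ∧ a.1 + 3 ≤ a.2 := by
      simp only [List.mem_cons, List.not_mem_nil, or_false] at ha
      rcases ha with rfl | rfl | rfl | rfl | rfl | rfl | rfl | rfl | rfl | rfl | rfl <;> norm_num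
    exact ⟨a.1, a.2, this.1, this.2.1, h1, this.2.2, h2⟩
  · obtain ⟨p, q, h1, h2, h3, h4⟩ := gap_large (n := m / 2) (by omega)
    exact ⟨p, q, h1, h2, by omega⟩

variable {α : Type*} [Fintype α] [DecidableEq α]

theorem card_supp_cycleOf {x : Perm α} (hx : (orderOf x).Prime) {a : α} (ha : a ∈ x.support) :
    (x.cycleOf a).support.card = orderOf x := by
  obtain ⟨n, hn⟩ := cycleType_prime_order hx
  apply Multiset.eq_of_mem_replicate (n := n + 1)
  rw [← hn, cycleType_def]
  exact Multiset.mem_map_of_mem _ (cycleOf_mem_cycleFactorsFinset_iff.2 ha)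

theorem trans_of {G : Subgroup (Perm α)} {x y : Perm α} (hxG : x ∈ G) (hyG : y ∈ G) (hx : (orderOf x).Prime)
    (hy : y.IsCycle) (hs : x.support ∪ y.support = univ) (hc : Fintype.card α < orderOf x + y.support.card) :
    IsPretransitive G α := by
  have h1 : ∀ a, ∃ g ∈ G, g a ∈ y.support := by
    intro a
    by_cases ha : a ∈ x.support
    · by_contra! H
      have hd : Disjoint (x.cycleOf a).support y.support := by
        rw [disjoint_left]
        intro b hb
        obtain ⟨i, rfl⟩ := (mem_support_cycleOf_iff.1 hb).1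
        exact H _ (G.zpow_mem hxG i)
      have := card_le_univ ((x.cycleOf a).support ∪ y.support)
      rw [card_union_of_disjoint hd, card_supp_cycleOf hx ha] at this
      omega
    · exact ⟨1, G.one_mem, (mem_union.1 (hs ▸ mem_univ a)).resolve_left ha⟩
  refine isPretransitive_subgroup_iff.2 fun a b => ?_
  obtain ⟨g, hg, ha⟩ := h1 a
  obtain ⟨h, hh, hb⟩ := h1 b
  obtain ⟨i, hi⟩ := hy.exists_zpow_eq (mem_support.1 ha) (mem_support.1 hb)
  refine ⟨h⁻¹ * y ^ i * g, G.mul_mem (G.mul_mem (G.inv_mem hh) (G.zpow_mem hyG i)) hg, ?_⟩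
  simp [hi]

theorem card_ofFix (G : Subgroup (Perm α)) (g : Perm α) :
    Nat.card (SubMulAction.ofFixingSubgroup G (g.support : Set α)ᶜ) = g.support.card := by
  rw [← Set.ncard_coe_finset, ← Nat.card_coe_set_eq]
  exact Nat.card_congr (Equiv.subtypeEquivRight fun x => by simp [SubMulAction.mem_ofFixingSubgroup_iff])

theorem prim_fix {G : Subgroup (Perm α)} {g : Perm α} (hg : g ∈ G) (hgc : g.IsCycle) (hp : g.support.card.Prime) :
    IsPreprimitive (fixingSubgroup G (g.support : Set α)ᶜ) (SubMulAction.ofFixingSubgroup G (g.support : Set α)ᶜ) :=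
  haveI := isPretransitive_of_isCycle_mem hgc hg
  IsPreprimitive.of_prime_card (by rwa [card_ofFix])

theorem prim_of {G : Subgroup (Perm α)} [IsPretransitive G α] {g : Perm α} (hg : g ∈ G) (hgc : g.IsCycle)
    (hp : g.support.card.Prime) (hc : Fintype.card α < 2 * g.support.card) : IsPreprimitive G α := by
  have := prim_fix hg hgc hp
  refine IsPreprimitive.of_card_lt (f := SubMulAction.ofFixingSubgroup_equivariantMap G (g.support : Set α)ᶜ) ?_
  rw [Set.ncard_range_of_injective SubMulAction.ofFixingSubgroup_equivariantMap_injective, card_ofFix,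
    Nat.card_eq_fintype_card]
  exact hc

theorem mt_of {G : Subgroup (Perm α)} (hG : IsPreprimitive G α) {g : Perm α} (hg : g ∈ G) (hgc : g.IsCycle)
    (hp : g.support.card.Prime) {k : ℕ} (hk : Fintype.card α = g.support.card + k + 1) :
    IsMultiplyPretransitive G α (k + 2) := by
  have h2 := hp.two_le
  refine (IsPreprimitive.isMultiplyPreprimitive hG (s := (g.support : Set α)ᶜ) (n := k) ?_ ?_
    (prim_fix hg hgc hp)).isMultiplyPretransitive
  · rw [← coe_compl, Set.ncard_coe_finset, card_compl]; omega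
  · rw [Nat.card_eq_fintype_card]; omega

theorem not_sharp2 {G β : Type*} [Group G] [MulAction G β] [Finite β] [Nontrivial β]
    (h2 : IsMultiplyPretransitive G β 2) (h6 : 6 ∣ Nat.card β) :
    ∃ (g : G) (a b : β), a ≠ b ∧ g • a = a ∧ g • b = b ∧ g ≠ 1 := by
  by_contra! H
  obtain ⟨p, j, -, hp, -, hc, -⟩ := sharp2_kernel h2 H
  rw [hc] at h6
  have e2 := (Nat.prime_dvd_prime_iff_eq Nat.prime_two hp).1 (Nat.prime_two.dvd_of_dvd_pow (Dvd.dvd.trans (by norm_num) h6))
  have e3 := (Nat.prime_dvd_prime_iff_eq Nat.prime_three hp).1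
    (Nat.prime_three.dvd_of_dvd_pow (Dvd.dvd.trans (by norm_num) h6))
  omega

theorem card_eq_fix {G β : Type*} [Group G] [MulAction G β] [Finite β] {k : ℕ} (h : IsMultiplyPretransitive G β k)
    (s : Set β) (hs : s.ncard = k) :
    Nat.card G = (Nat.card β).choose k * k.factorial * Nat.card (fixingSubgroup G s) := by
  subst hs
  rw [← h.index_of_fixingSubgroup_eq, Subgroup.index_mul_card]

theorem le_card2 {G β : Type*} [Group G] [Finite G] [MulAction G β] [Finite β] [Nontrivial β]
    (h2 : IsMultiplyPretransitive G β 2) (h6 : 6 ∣ Nat.card β) :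
    ∃ t, 2 ≤ t ∧ Nat.card G = (Nat.card β).choose 2 * 2 * t := by
  obtain ⟨g, a, b, hab, ha, hb, h1⟩ := not_sharp2 h2 h6
  refine ⟨_, ?_, card_eq_fix h2 {a, b} (Set.ncard_pair hab)⟩
  refine (Subgroup.one_lt_card_iff_ne_bot _).2 fun e => h1 ?_
  rw [← Subgroup.mem_bot, ← e, mem_fixingSubgroup_iff]
  rintro y (rfl | rfl) <;> assumption

theorem le_card3 {G β : Type*} [Group G] [Finite G] [MulAction G β] [Finite β] {n : ℕ} (hn : Nat.card β = n + 1)
    (h0 : n ≠ 0) (h3 : IsMultiplyPretransitive G β 3) (h6 : 6 ∣ n) :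
    ∃ t, 2 ≤ t ∧ Nat.card G = (n + 1) * (n.choose 2 * 2 * t) := by
  have : IsPretransitive G β := is_one_pretransitive_iff.1
    (isMultiplyPretransitive_of_le (n := 3) (by norm_num) (by omega))
  obtain ⟨a⟩ : Nonempty β := (Nat.card_pos_iff.1 (by omega)).1
  have hc : Nat.card (SubMulAction.ofStabilizer G a) = n := by
    have := SubMulAction.nat_card_ofStabilizer_add_one_eq G a
    omega
  have : Nontrivial (SubMulAction.ofStabilizer G a) := Finite.one_lt_card_iff_nontrivial.1 (by omega)
  obtain ⟨t, h1, h2⟩ := le_card2 ((SubMulAction.ofStabilizer.isMultiplyPretransitive (a := a)).1 h3) (by rwa [hc])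
  exact ⟨t, h1, by rw [card_eq_mul_of_transitive (G := G) a, h2, hc, hn]⟩

theorem alt_of_index {G : Subgroup (Perm α)} (hG : G ≤ alternatingGroup α) (h5 : 5 ≤ Fintype.card α)
    (h : (Fintype.card α - 1).factorial < 2 * Nat.card G) : alternatingGroup α ≤ G := by
  have hc : Nat.card α = Fintype.card α := Nat.card_eq_fintype_card
  have := alternatingGroup.isSimpleGroup (α := α) (by omega)
  have : Nontrivial α := Fintype.one_lt_card_iff_nontrivial.1 (by omega)
  by_contra H
  obtain ⟨n, hn⟩ : ∃ n, Fintype.card α = n + 1 := ⟨Fintype.card α - 1, by omega⟩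
  have h1 := two_mul_nat_card_alternatingGroup (α := α)
  rw [Nat.card_perm, hc, hn, Nat.factorial_succ] at h1
  rw [hn, Nat.add_sub_cancel] at h
  obtain ⟨f, hf⟩ := Cfsg.Agent.S0991.result (G := alternatingGroup α)
    (fun hc => by have := alternatingGroup.isMulCommutative_iff_card_le_three.1 hc; omega)
    (G.subgroupOf (alternatingGroup α)) (fun e => H (Subgroup.subgroupOf_eq_top.1 e))
  have h2 := (G.subgroupOf (alternatingGroup α)).card_mul_index
  rw [Nat.card_congr (Subgroup.subgroupOfEquivOfLe hG).toEquiv] at h2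
  generalize (G.subgroupOf (alternatingGroup α)).index = k at f hf h2
  have h3 := Nat.card_le_card_of_injective _ ((alternatingGroup (Fin k)).subtype_injective.comp hf)
  rw [Nat.card_perm, Nat.card_eq_fintype_card (α := Fin k), Fintype.card_fin] at h3
  have h4 : k ≤ n := by
    by_contra h4
    have : (n + 1) * (2 * Nat.card G) ≤ k * (2 * Nat.card G) := Nat.mul_le_mul_right _ (by omega)
    have : (n + 1) * n.factorial < (n + 1) * (2 * Nat.card G) := Nat.mul_lt_mul_of_pos_left h (by omega)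
    nlinarith
  have h6 := Nat.factorial_le h4
  have h7 := n.factorial_pos
  nlinarith

theorem seven {G : Subgroup (Perm α)} (hG : G ≤ alternatingGroup α) (hα : Fintype.card α = 7)
    (h3 : IsMultiplyPretransitive G α 3) : alternatingGroup α ≤ G := by
  obtain ⟨t, h1, h2⟩ := le_card3 (n := 6) (by rw [Nat.card_eq_fintype_card, hα]) (by norm_num) h3 dvd_rfl
  refine alt_of_index hG (by omega) ?_
  rw [hα, h2]
  norm_num [Nat.factorial, Nat.choose]
  omega

theorem a6_pow : ∀ σ : Perm (Fin 6), sign σ = 1 → σ ^ 4 = 1 ∨ σ ^ 3 = 1 ∨ σ ^ 5 = 1 := by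
  decide +kernel

theorem six {G : Subgroup (Perm α)} (hG : G ≤ alternatingGroup α) (hα : Fintype.card α = 6)
    (h2 : IsMultiplyPretransitive G α 2) : alternatingGroup α ≤ G ∨ Nonempty (G ≃* alternatingGroup (Fin 5)) := by
  have : Nontrivial α := Fintype.one_lt_card_iff_nontrivial.1 (by omega)
  obtain ⟨t, h1, h2⟩ := le_card2 h2 (by rw [Nat.card_eq_fintype_card, hα])
  rw [Nat.card_eq_fintype_card (α := α), hα] at h2
  norm_num [Nat.choose] at h2
  by_cases ht : t = 2
  · right
    have key : ∀ g : G, orderOf g ∣ 4 ∨ orderOf g ∣ 3 ∨ orderOf g ∣ 5 := by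
      intro g
      let e := (Fintype.equivFinOfCardEq hα).permCongrHom
      rw [← Subgroup.orderOf_coe, ← e.orderOf_eq]
      simp only [orderOf_dvd_iff_pow_eq_one]
      exact a6_pow _ ((sign_permCongr _ _).trans (hG g.2))
    refine Cfsg.Lib.Linear.nonempty_equiv_A5 (by omega) ?_ ?_ ?_ <;> intro g e <;> have := key g <;> rw [e] at this <;>
      omega
  · left
    refine alt_of_index hG (by omega) ?_
    rw [hα, h2]
    norm_num [Nat.factorial]
    omega

theorem dvd_card_supp {x : Perm α} (hx : (orderOf x).Prime) : orderOf x ∣ x.support.card := by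
  obtain ⟨n, hn⟩ := cycleType_prime_order hx
  rw [← sum_cycleType, hn, Multiset.sum_replicate]
  exact Dvd.intro_left _ rfl

theorem dvd_card_inv {x : Perm α} (hx : (orderOf x).Prime) {T : Finset α} (hT : T ⊆ x.support)
    (hi : ∀ a, x a ∈ T ↔ a ∈ T) : orderOf x ∣ T.card := by
  have := Fact.mk hx
  by_contra H
  obtain ⟨a, ha⟩ := exists_fixed_point_of_prime (p := orderOf x) (n := 1) (σ := x.subtypePerm hi)
    (by rwa [Fintype.card_coe]) (by rw [pow_one, subtypePerm_pow]; ext a; simp)
  exact mem_support.1 (hT a.2) (congrArg Subtype.val ha)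

theorem disj_of_comm {x y : Perm α} (hx : (orderOf x).Prime) (hy : (orderOf y).Prime) (hxy : orderOf x ≠ orderOf y)
    (h : Commute x y) (hc : Fintype.card α < orderOf x * orderOf y) : Disjoint x.support y.support := by
  have h1 : ∀ {x y : Perm α}, Commute x y → ∀ a, x a ∈ y.support ↔ a ∈ y.support := fun {x y} h a => by
    rw [mem_support, mem_support, ← mul_apply, ← h.eq, mul_apply, x.injective.ne_iff]
  have h2 := ((Nat.coprime_primes hx hy).2 hxy).mul_dvd_of_dvd_of_dvd
    (dvd_card_inv hx (T := x.support ∩ y.support) inter_subset_left fun a => by simp only [mem_inter, h1 h, apply_mem_support])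
    (dvd_card_inv hy (T := x.support ∩ y.support) inter_subset_right fun a => by
      simp only [mem_inter, h1 h.symm, apply_mem_support])
  rw [disjoint_iff_inter_eq_empty, ← card_eq_zero]
  exact Nat.eq_zero_of_dvd_of_lt h2 ((card_le_univ _).trans_lt hc)

theorem affine {g t : Perm α} (hg : g.IsCycle) (hp : (orderOf g).Prime) (ht : t * g * t⁻¹ ∈ Subgroup.zpowers g)
    (h0 : ∀ a ∉ g.support, t a = a) {c d : α} (hc : c ∈ g.support) (hd : d ∈ g.support) (hcd : c ≠ d)
    (h1 : t c = c) (h2 : t d = d) : t = 1 := by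
  obtain ⟨k, rfl⟩ := hg.exists_pow_eq (mem_support.1 hc) (mem_support.1 hd)
  obtain ⟨i, hi⟩ := (Submonoid.mem_powers_iff _ _).1 ((mem_powers_iff_mem_zpowers).2 ht)
  have h3 : t * g ^ k * t⁻¹ = g ^ k := by
    rw [← conj_pow, ← hi, ← pow_mul]
    refine hg.pow_eq_pow_iff.2 ⟨c, mem_support.1 hc, ?_⟩
    rw [pow_mul, hi, conj_pow, mul_apply, mul_apply, show t⁻¹ c = c from (Perm.inv_eq_iff_eq.2 h1.symm), h2]
  have h4 : g ∈ Subgroup.zpowers (g ^ k) := by
    refine mem_zpowers_pow_iff.2 ((Nat.coprime_comm.1 ((Nat.Prime.coprime_iff_not_dvd hp).2 fun e => hcd ?_)))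
    rw [orderOf_dvd_iff_pow_eq_one.1 e, one_apply]
  obtain ⟨j, hj⟩ := h4
  have h5 : Commute t g := by
    rw [← hj]
    exact Commute.zpow_right (mul_inv_eq_iff_eq_mul.1 h3) j
  ext a
  by_cases ha : a ∈ g.support
  · obtain ⟨l, rfl⟩ := hg.exists_pow_eq (mem_support.1 hc) (mem_support.1 ha)
    rw [← mul_apply, (h5.pow_right l).eq, mul_apply, h1, one_apply]
  · exact h0 a ha

theorem five_dvd {G : Subgroup (Perm α)} (hG : G ≤ alternatingGroup α) (hα : Fintype.card α = 13)
    (hP : IsPreprimitive G α) {g : Perm α} (hg : g ∈ G) (hgc : g.IsCycle) (hp : g.support.card = 11) :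
    5 ∣ Nat.card G := by
  by_contra H5
  have : Fact (Nat.Prime 11) := ⟨by norm_num⟩
  have h3 : IsMultiplyPretransitive G α 3 := mt_of hP hg hgc (by rw [hp]; norm_num) (k := 1) (by omega)
  obtain ⟨t, h1, h2⟩ := le_card3 (n := 12) (by rw [Nat.card_eq_fintype_card, hα]) (by norm_num) h3 (by norm_num)
  have h4 := card_eq_fix (isMultiplyPretransitive_of_le (G := G) (α := α) (m := 2) (n := 3) (by norm_num)
    (by rw [Nat.card_eq_fintype_card]; omega)) (g.support : Set α)ᶜ
    (by rw [← coe_compl, Set.ncard_coe_finset, card_compl]; omega)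
  have hd := card_fixingSubgroup_dvd G (g.support : Set α)ᶜ
  have hprim := prim_fix hg hgc (by rw [hp]; norm_num)
  have hcard := card_ofFix G g
  rw [compl_compl, Set.ncard_coe_finset, hp] at hd
  set s : Set α := (g.support : Set α)ᶜ with hs
  have hfix : ∀ u : fixingSubgroup G s, ∀ a ∉ g.support, (u.1.1 : Perm α) a = a := fun u a ha =>
    (mem_fixingSubgroup_iff G).1 u.2 a (by simpa [hs] using ha)
  let x : fixingSubgroup G s := ⟨⟨g, hg⟩, (mem_fixingSubgroup_iff G).2 fun a ha => by
    change g a = a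
    simpa [hs] using ha⟩
  have hgo : orderOf g = 11 := by rw [hgc.orderOf, hp]
  have hxo : orderOf x = 11 := by rw [← Subgroup.orderOf_coe, ← Subgroup.orderOf_coe]; exact hgo
  have hi : ¬ 11 ∣ (Subgroup.zpowers x).index := fun e => by
    rw [← (Subgroup.zpowers x).card_mul_index, Nat.card_zpowers, hxo] at hd
    exact not_sq_dvd_factorial (by norm_num) ((Nat.mul_dvd_mul_left 11 e).trans hd)
  obtain ⟨P, hPx⟩ := Cfsg.Lib.Amalg.syl_top_iff.1 (Cfsg.Lib.Amalg.syl_of_not_dvd (T := Subgroup.zpowers x) le_top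
    (Cfsg.Lib.Amalg.isPGroup_zpowers_of_orderOf (k := 1) (by rw [hxo, pow_one])) (by rwa [Subgroup.relIndex_top_right]))
  have hN : Subgroup.normalizer (P : Set (fixingSubgroup G s)) ≤ Subgroup.centralizer (P : Set (fixingSubgroup G s)) := by
    intro n hn
    have hPx' : (P : Set (fixingSubgroup G s)) = Subgroup.zpowers x := congrArg SetLike.coe hPx
    rw [hPx'] at hn ⊢
    obtain ⟨c, hc⟩ : g.support.Nonempty := card_pos.1 (by omega)
    have hnc : (n.1.1 : Perm α) c ∈ g.support := by
      by_contra e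
      exact e (by rw [(n.1.1 : Perm α).injective (hfix n _ e)]; exact hc)
    obtain ⟨k, hk⟩ := hgc.exists_pow_eq (mem_support.1 hc) (mem_support.1 hnc)
    have hu : (x ^ k)⁻¹ * n ∈ Subgroup.normalizer (Subgroup.zpowers x : Set (fixingSubgroup G s)) :=
      mul_mem (inv_mem (Subgroup.le_normalizer (Subgroup.npow_mem_zpowers x k))) hn
    have huc : (((x ^ k)⁻¹ * n).1.1 : Perm α) c = c := by
      change (g ^ k)⁻¹ ((n.1.1 : Perm α) c) = c
      rw [← hk]; simp
    suffices (x ^ k)⁻¹ * n = 1 by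
      rw [← inv_mul_eq_one.1 this]
      exact fun y ⟨j, hj⟩ => hj ▸ ((Commute.refl x).zpow_left j).pow_right k
    generalize (x ^ k)⁻¹ * n = u at hu huc
    by_contra hu1
    obtain ⟨r, hr, hru⟩ := Nat.exists_prime_and_dvd (fun e => hu1 (orderOf_eq_one_iff.1 e))
    have hvo := orderOf_pow_orderOf_div (orderOf_pos u).ne' hru
    have hv := pow_mem hu (orderOf u / r)
    have hvc : ((u ^ (orderOf u / r)).1.1 : Perm α) c = c := pow_apply_eq_self_of_apply_eq_self huc _
    generalize u ^ (orderOf u / r) = v at hvo hv hvc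
    have hvo' : orderOf (v.1.1 : Perm α) = r := by rw [Subgroup.orderOf_coe, Subgroup.orderOf_coe, hvo]
    have hsv : (v.1.1 : Perm α).support = g.support.erase c := by
      ext a
      rw [mem_erase, mem_support]
      refine ⟨fun h => ⟨fun e => h (e ▸ hvc), by_contra fun e => h (hfix v a e)⟩, fun h e => hr.ne_one ?_⟩
      obtain ⟨j, hj⟩ := (Subgroup.mem_normalizer_iff.1 hv x).1 (Subgroup.mem_zpowers x)
      rw [← hvo', orderOf_eq_one_iff]
      exact affine hgc (by rw [hgo]; norm_num) ⟨j, congrArg (fun z : fixingSubgroup G s => (z.1.1 : Perm α)) hj⟩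
        (hfix v) h.2 hc h.1 e hvc
    have h10 : (v.1.1 : Perm α).support.card = 10 := by rw [hsv, card_erase_of_mem hc, hp]
    have h5 := dvd_card_supp (hvo' ▸ hr)
    rw [hvo', h10] at h5
    have h6 : r ∣ Nat.card G := by rw [← hvo, ← Subgroup.orderOf_coe]; exact orderOf_dvd_natCard _
    have h7 : r = 2 := by
      have := Nat.le_of_dvd (by norm_num) h5
      have := hr.two_le
      interval_cases r <;> first | rfl | omega
    subst h7
    obtain ⟨m, hm⟩ := cycleType_prime_order (hvo' ▸ hr)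
    have h8 : sign (v.1.1 : Perm α) = 1 := hG v.1.2
    rw [← sum_cycleType] at h10
    rw [sign_of_cycleType, h10, hm, Multiset.card_replicate] at h8
    rw [hm, Multiset.sum_replicate, hvo', smul_eq_mul] at h10
    rw [show m = 4 by omega] at h8
    exact absurd h8 (by decide)
  have hK := MonoidHom.ker_transferSylow_isComplement' P hN
  have h9 := hK.card_mul_card
  rw [show Nat.card (P : Subgroup (fixingSubgroup G s)) = 11 by rw [hPx, Nat.card_zpowers, hxo]] at h9
  by_cases hb : (MonoidHom.transferSylow P hN).ker = ⊥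
  · rw [hb, Subgroup.card_bot] at h9
    rw [h2, ← h9, Nat.card_eq_fintype_card, hα] at h4
    norm_num [Nat.choose, Nat.factorial] at h4
    omega
  · have : FaithfulSMul (fixingSubgroup G s) (SubMulAction.ofFixingSubgroup G s) := ⟨fun {u v} h => by
      ext a
      by_cases ha : a ∈ g.support
      · exact congrArg Subtype.val (h ⟨a, by simpa [SubMulAction.mem_ofFixingSubgroup_iff, hs] using ha⟩)
      · rw [hfix u a ha, hfix v a ha]⟩
    have := isPretransitive_of_normal (α := SubMulAction.ofFixingSubgroup G s) _ hb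
    obtain ⟨a⟩ : Nonempty (SubMulAction.ofFixingSubgroup G s) := (Nat.card_pos_iff.1 (by omega)).1
    rw [← h9, card_eq_mul_of_transitive a, hcard, hp] at hd
    exact not_sq_dvd_factorial (p := 11) (by norm_num) (Dvd.dvd.trans ⟨_, by ring⟩ hd)

theorem thirteen {G : Subgroup (Perm α)} (hG : G ≤ alternatingGroup α) (hα : Fintype.card α = 13)
    (hP : IsPreprimitive G α) {g : Perm α} (hg : g ∈ G) (hgc : g.IsCycle) (hp : g.support.card = 11) :
    alternatingGroup α ≤ G := by
  have : Fact (Nat.Prime 5) := ⟨by norm_num⟩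
  have h3 : IsMultiplyPretransitive G α 3 := mt_of hP hg hgc (by rw [hp]; norm_num) (k := 1) (by omega)
  by_contra H
  have h10 : ∀ z : G, orderOf z = 5 → (z : Perm α).support.card = 10 := by
    intro z hz
    rw [← Subgroup.orderOf_coe] at hz
    have h1 := dvd_card_supp (x := z.1) (by rw [hz]; norm_num)
    have h2 := card_le_univ (z : Perm α).support
    rw [hz] at h1
    by_contra h4
    have h5 := isCycle_of_prime_order (σ := z.1) (by rw [hz]; norm_num) (by omega)
    exact H (Cfsg.Agent.S0713.result G hP (p := 5) (by norm_num) (by omega) (by omega) h5 (by rw [← h5.orderOf, hz]) z.2)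
  obtain ⟨z, hz⟩ := exists_prime_orderOf_dvd_card' 5 (five_dvd hG hα hP hg hgc hp)
  set s : Set α := ((z : Perm α).support : Set α)ᶜ with hs
  have hle : Subgroup.zpowers z ≤ fixingSubgroup G s := by
    rw [Subgroup.zpowers_le, mem_fixingSubgroup_iff]
    intro y hy
    change (z : Perm α) y = y
    simpa [hs] using hy
  have hzp : IsPGroup 5 (Subgroup.zpowers z) := Cfsg.Lib.Amalg.isPGroup_zpowers_of_orderOf (k := 1) (by rw [hz, pow_one])
  have hsyl : Cfsg.Lib.Amalg.Syl 5 (Subgroup.zpowers z) (fixingSubgroup G s) := by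
    obtain ⟨T, hT, hzT⟩ := Cfsg.Lib.Amalg.exists_syl_ge hzp hle
    obtain ⟨c, hc⟩ : (z : Perm α).support.Nonempty := card_pos.1 (by rw [h10 z hz]; norm_num)
    have hst : stabilizer T c = ⊥ := by
      by_contra e
      obtain ⟨w, hw⟩ := exists_prime_orderOf_dvd_card' 5
        (Cfsg.Lib.Amalg.dvd_card_of_isPGroup_ne_bot (hT.isPGroup.to_subgroup _) e)
      have h1 := h10 w.1.1 (by rw [Subgroup.orderOf_coe, Subgroup.orderOf_coe, hw])
      have h2 : (w.1.1 : Perm α).support ⊆ (z : Perm α).support.erase c := fun a ha => by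
        rw [mem_support] at ha
        refine mem_erase.2 ⟨fun e => ha (e ▸ w.2), by_contra fun e => ha ?_⟩
        exact (mem_fixingSubgroup_iff G).1 (hT.le w.1.2) a (by simpa [hs] using e)
      have h4 := card_le_card h2
      rw [card_erase_of_mem hc, h10 z hz] at h4
      omega
    have h1 : Nat.card T ≤ 13 := by
      have := (stabilizer T c).index_mul_card
      rw [index_stabilizer, hst, Subgroup.card_bot, mul_one] at this
      rw [← this, ← hα, ← Nat.card_eq_fintype_card, ← Set.ncard_univ]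
      exact Set.ncard_le_ncard (Set.subset_univ _)
    refine hT.of_card_ge hzp hle ?_
    obtain ⟨k, hk⟩ := IsPGroup.iff_card.1 hT.isPGroup
    rw [Nat.card_zpowers, hz, hk]
    rw [hk] at h1
    rcases k with _ | _ | k
    · norm_num
    · norm_num
    · rw [pow_succ, pow_succ] at h1
      have := Nat.one_le_pow k 5 (by norm_num)
      omega
  obtain ⟨a, b, c, hab, hac, hbc, habc⟩ := card_eq_three.1
    (show (z : Perm α).supportᶜ.card = 3 by rw [card_compl, h10 z hz, hα])
  have hs' : s = {a, b, c} := by rw [hs, ← coe_compl, habc]; simp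
  obtain ⟨g₀, ha, hb, hc⟩ := three_iff.1 h3 a b c b c a hab hac hbc hbc hab.symm hac.symm
  obtain ⟨u, hu, h1⟩ := witt_normalizer hsyl g₀ fun y hy v hv => (mem_fixingSubgroup_iff G).1 (hle hv) _ (by
    rw [hs'] at hy ⊢
    rcases hy with rfl | rfl | rfl <;> simp [ha, hb, hc])
  rw [← h1 a (by simp [hs'])] at ha
  rw [← h1 b (by simp [hs'])] at hb
  rw [← h1 c (by simp [hs'])] at hc
  have h4 : Commute (u ^ 4) z := by
    have h5 : ((Subgroup.zpowers z).normalizerMonoidHom ⟨u, hu⟩) ^ 4 = 1 := by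
      have := pow_card_eq_one' (x := (Subgroup.zpowers z).normalizerMonoidHom ⟨u, hu⟩)
      rwa [IsCyclic.card_mulAut, Nat.card_zpowers, hz, Nat.totient_prime (by norm_num)] at this
    rw [← map_pow, ← MonoidHom.mem_ker, Subgroup.normalizerMonoidHom_ker, Subgroup.mem_subgroupOf] at h5
    exact (h5 z (Subgroup.mem_zpowers z)).symm
  have h5 : 3 ∣ orderOf (u ^ 4) := by
    have h6 : ∀ k : ℕ, (u ^ (3 * k)) • a = a := fun k => by
      induction k with
      | zero => simp
      | succ k ih => rw [Nat.mul_succ, add_comm, pow_add, mul_smul, ih, pow_succ, pow_two, mul_smul, mul_smul, ha, hb, hc]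
    have h7 : (u ^ (4 * orderOf (u ^ 4))) • a = a := by rw [pow_mul, pow_orderOf_eq_one, one_smul]
    by_contra e
    obtain ⟨k, hk | hk⟩ : ∃ k, 4 * orderOf (u ^ 4) = 1 + 3 * k ∨ 4 * orderOf (u ^ 4) = 2 + 3 * k :=
      ⟨4 * orderOf (u ^ 4) / 3, by omega⟩
    · rw [hk, pow_add, mul_smul, h6, pow_one, ha] at h7
      exact hab h7.symm
    · rw [hk, pow_add, mul_smul, h6, pow_two, mul_smul, ha, hb] at h7
      exact hac h7.symm
  have h6 := orderOf_pow_orderOf_div (orderOf_pos _).ne' h5
  have h7 := h4.pow_left (orderOf (u ^ 4) / 3)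
  generalize (u ^ 4) ^ (orderOf (u ^ 4) / 3) = w at h6 h7
  rw [← Subgroup.orderOf_coe] at h6 hz
  have h8 := disj_of_comm (x := w.1) (y := z.1) (by rw [h6]; norm_num) (by rw [hz]; norm_num) (by rw [h6, hz]; norm_num)
    (congrArg Subtype.val h7.eq) (by rw [h6, hz, hα]; norm_num)
  have h9 := card_le_card (subset_compl_iff_disjoint_right.2 h8)
  rw [card_compl, h10 z (by rwa [← Subgroup.orderOf_coe]), hα] at h9
  have h11 := isCycle_of_prime_order (σ := w.1) (by rw [h6]; norm_num) (by omega)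
  exact H (alternatingGroup_le_of_isPreprimitive_of_isThreeCycle_mem hP
    (card_support_eq_three_iff.1 (by rw [← h11.orderOf, h6])) w.2)

theorem full {x y : Perm α} (hx : x ∈ alternatingGroup α) (hy : y ∈ alternatingGroup α) {p q : ℕ} (hp : p.Prime)
    (hq : q.Prime) (hxp : orderOf x = p) (hyq : orderOf y = q) (hs : x.support ∪ y.support = univ)
    (h1 : Fintype.card α ≤ 2 * p) (hpq : p < q) (h5 : 5 ≤ q)
    (h : (p + 3 ≤ q ∧ Fintype.card α < 2 * p) ∨ (p = 3 ∧ q = 5) ∨ (p = 5 ∧ q = 7) ∨ (p = 7 ∧ q = 11) ∨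
      (p = 11 ∧ q = 13 ∧ Fintype.card α < 22)) :
    ∃ d : ℕ, 5 ≤ d ∧ Nonempty (Subgroup.closure ({x, y} : Set (Perm α)) ≃* alternatingGroup (Fin d)) := by
  set G := Subgroup.closure ({x, y} : Set (Perm α))
  have hxG : x ∈ G := Subgroup.subset_closure (by simp)
  have hyG : y ∈ G := Subgroup.subset_closure (by simp)
  have hG : G ≤ alternatingGroup α := (Subgroup.closure_le _).2 (by rintro _ (rfl | rfl) <;> assumption)
  have hyc := isCycle_of_prime_order' (σ := y) (hyq ▸ hq) (by omega)
  have hys : y.support.card = q := by rw [← hyc.orderOf, hyq]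
  have hqn : q ≤ Fintype.card α := hys ▸ card_le_univ _
  have := trans_of hxG hyG (hxp ▸ hp) hyc hs (by omega)
  have hP := prim_of hyG hyc (hys ▸ hq) (by omega)
  suffices alternatingGroup α ≤ G ∨ Nonempty (G ≃* alternatingGroup (Fin 5)) by
    rcases this with h | h
    · exact ⟨Fintype.card α, by omega, ⟨(MulEquiv.subgroupCongr (hG.antisymm h)).trans (Fintype.equivFin α).altCongrHom⟩⟩
    · exact ⟨5, le_rfl, h⟩
  by_cases h2 : q + 3 ≤ Fintype.card α
  · exact Or.inl (Cfsg.Agent.S0713.result G hP hq (by omega) h2 hyc hys hyG)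
  by_cases h6 : Fintype.card α = 6
  · exact six hG h6 (mt_of hP hyG hyc (hys ▸ hq) (k := 0) (by omega))
  left
  have hxc := isCycle_of_prime_order' (σ := x) (hxp ▸ hp) (by omega)
  have hxs : x.support.card = p := by rw [← hxc.orderOf, hxp]
  by_cases h3 : p + 3 ≤ Fintype.card α
  · exact Cfsg.Agent.S0713.result G hP hp (by omega) h3 hxc hxs hxG
  by_cases h4 : p = 3
  · exact alternatingGroup_le_of_isPreprimitive_of_isThreeCycle_mem hP (card_support_eq_three_iff.1 (by omega)) hxG
  by_cases h7 : p = 5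
  · exact seven hG (by omega) (mt_of hP hxG hxc (hxs ▸ hp) (k := 1) (by omega))
  · exact thirteen hG (by omega) hP hxG hxc (by omega)

theorem gen {x y : alternatingGroup α} {p q : ℕ} (hp : p.Prime) (hq : q.Prime) (hxp : orderOf x = p) (hyq : orderOf y = q)
    (h1 : Fintype.card α ≤ 2 * p) (hpq : p < q) (h5 : 5 ≤ q)
    (h : (p + 3 ≤ q ∧ Fintype.card α < 2 * p) ∨ (p = 3 ∧ q = 5) ∨ (p = 5 ∧ q = 7) ∨ (p = 7 ∧ q = 11) ∨
      (p = 11 ∧ q = 13 ∧ Fintype.card α < 22)) :
    ∃ d : ℕ, 5 ≤ d ∧ Nonempty (Subgroup.closure ({x, y} : Set (alternatingGroup α)) ≃* alternatingGroup (Fin d)) := by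
  let T := x.1.support ∪ y.1.support
  have hx : ∀ a, x.1 a ∈ T ↔ a ∈ T := fun a => by
    by_cases ha : a ∈ x.1.support
    · simp only [T, mem_union, apply_mem_support, ha, true_or]
    · rw [notMem_support.1 ha]
  have hy : ∀ a, y.1 a ∈ T ↔ a ∈ T := fun a => by
    by_cases ha : a ∈ y.1.support
    · simp only [T, mem_union, apply_mem_support, ha, or_true]
    · rw [notMem_support.1 ha]
  have ex : ofSubtype (x.1.subtypePerm hx) = x.1 :=
    ofSubtype_subtypePerm hx fun a ha => mem_union_left _ (mem_support.2 ha)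
  have ey : ofSubtype (y.1.subtypePerm hy) = y.1 :=
    ofSubtype_subtypePerm hy fun a ha => mem_union_right _ (mem_support.2 ha)
  have hi : Function.Injective (ofSubtype : Perm T →* Perm α) := ofSubtype_injective
  have hc : Fintype.card T ≤ Fintype.card α := Fintype.card_subtype_le _
  obtain ⟨d, hd, ⟨e⟩⟩ := full (x := x.1.subtypePerm hx) (y := y.1.subtypePerm hy)
    (by rw [mem_alternatingGroup, ← sign_ofSubtype, ex]; exact x.2)
    (by rw [mem_alternatingGroup, ← sign_ofSubtype, ey]; exact y.2) hp hq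
    (by rw [← orderOf_injective _ hi, ex, Subgroup.orderOf_coe, hxp])
    (by rw [← orderOf_injective _ hi, ey, Subgroup.orderOf_coe, hyq])
    (eq_univ_of_forall fun a => by
      have := a.2
      simp only [T, mem_union, mem_support] at this ⊢
      exact this.imp (fun h e => h (congrArg Subtype.val e)) (fun h e => h (congrArg Subtype.val e)))
    (by omega) hpq h5 (by omega)
  refine ⟨d, hd, ⟨((Subgroup.equivMapOfInjective _ _ (alternatingGroup α).subtype_injective).trans
    ((MulEquiv.subgroupCongr ?_).trans (Subgroup.equivMapOfInjective _ _ hi).symm)).trans e⟩⟩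
  rw [MonoidHom.map_closure, MonoidHom.map_closure, Set.image_pair, Set.image_pair, ex, ey]
  rfl

end Cfsg.Lib.Perm.TwoCyc
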