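import Cfsg.Agent.Lib.Perm.Basic
import Mathlib.LinearAlgebra.Matrix.GeneralLinearGroup.Defs
import Mathlib.Data.ZMod.Basic

/-! Certificates for subgroups of `GL(2, p)` that are regular on the non-zero vectors. -/

namespace Cfsg.Lib.Perm

open Matrix

/-- lookup in a packed table -/
def tab2 (p T : ℕ) (x y : ZMod p) : ℕ := (T >>> (8 * (p * x.val + y.val))) % 256

/-- the check that the matrix `(a b; c d)` commutes with the section `(s, t)` -/
def SecOK (p : ℕ) (s t : ZMod p → ZMod p → ZMod p) (a b c d : ZMod p) : Prop :=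
  ∀ x y : ZMod p, (x = 0 ∧ y = 0) ∨
    (s (a * x + b * y) (c * x + d * y) = a * s x y + b * t x y ∧
     t (a * x + b * y) (c * x + d * y) = c * s x y + d * t x y)

theorem regular_of_cert {p : ℕ} [Fact p.Prime] (S : Set (GL (Fin 2) (ZMod p)))
    (s t : ZMod p → ZMod p → ZMod p) (dep : ZMod p → ZMod p → ℕ) (h1 : s 1 0 = 0 ∧ t 1 0 = 1)
    (h2 : ∀ g ∈ S, SecOK p s t (g 0 0) (g 0 1) (g 1 0) (g 1 1))
    (h3 : ∀ x y : ZMod p, (x = 0 ∧ y = 0) ∨ (x = 1 ∧ y = 0) ∨ ∃ g ∈ S,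
      dep (g 0 0 * x + g 0 1 * y) (g 1 0 * x + g 1 1 * y) < dep x y) :
    Nat.card (Subgroup.closure S) = p ^ 2 - 1 ∧ ∀ v w : Fin 2 → ZMod p, v ≠ 0 → w ≠ 0 →
      ∃! h : Subgroup.closure S, mulVec ((h : GL (Fin 2) (ZMod p)) : Matrix (Fin 2) (Fin 2) (ZMod p)) v = w := by
  classical
  have hmul : ∀ (g h : GL (Fin 2) (ZMod p)) (v : Fin 2 → ZMod p),
      ((g * h : GL (Fin 2) (ZMod p)) : Matrix (Fin 2) (Fin 2) (ZMod p)) *ᵥ v = (g : Matrix (Fin 2) (Fin 2) (ZMod p)) *ᵥ (h : Matrix (Fin 2) (Fin 2) (ZMod p)) *ᵥ v := by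
    intro g h v; rw [mulVec_mulVec]; rfl
  have hinv : ∀ (g : GL (Fin 2) (ZMod p)) (v : Fin 2 → ZMod p),
      ((g⁻¹ : GL (Fin 2) (ZMod p)) : Matrix (Fin 2) (Fin 2) (ZMod p)) *ᵥ (g : Matrix (Fin 2) (Fin 2) (ZMod p)) *ᵥ v = v := by
    intro g v; rw [← hmul, inv_mul_cancel]; simp
  have hinv' : ∀ (g : GL (Fin 2) (ZMod p)) (v : Fin 2 → ZMod p),
      (g : Matrix (Fin 2) (Fin 2) (ZMod p)) *ᵥ ((g⁻¹ : GL (Fin 2) (ZMod p)) : Matrix (Fin 2) (Fin 2) (ZMod p)) *ᵥ v = v := by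
    intro g v; rw [← hmul, mul_inv_cancel]; simp
  have hne : ∀ (g : GL (Fin 2) (ZMod p)) (v : Fin 2 → ZMod p), v ≠ 0 →
      (g : Matrix (Fin 2) (Fin 2) (ZMod p)) *ᵥ v ≠ 0 := by
    intro g v hv h
    apply hv
    rw [← hinv g v, h, mulVec_zero]
  have h0 : ∀ v : Fin 2 → ZMod p, v 0 = 0 ∧ v 1 = 0 → v = 0 := fun v h => by
    ext i; fin_cases i
    · exact h.1
    · exact h.2
  have hc0 : ∀ (g : GL (Fin 2) (ZMod p)) (v : Fin 2 → ZMod p),
      ((g : Matrix (Fin 2) (Fin 2) (ZMod p)) *ᵥ v) 0 = g 0 0 * v 0 + g 0 1 * v 1 := fun g v => by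
    simp [mulVec, dotProduct, Fin.sum_univ_two]
  have hc1 : ∀ (g : GL (Fin 2) (ZMod p)) (v : Fin 2 → ZMod p),
      ((g : Matrix (Fin 2) (Fin 2) (ZMod p)) *ᵥ v) 1 = g 1 0 * v 0 + g 1 1 * v 1 := fun g v => by
    simp [mulVec, dotProduct, Fin.sum_univ_two]
  let sec : (Fin 2 → ZMod p) → Fin 2 → ZMod p := fun v => ![s (v 0) (v 1), t (v 0) (v 1)]
  have hsec : ∀ g ∈ Subgroup.closure S, ∀ v : Fin 2 → ZMod p, v ≠ 0 →
      sec ((g : Matrix (Fin 2) (Fin 2) (ZMod p)) *ᵥ v) = (g : Matrix (Fin 2) (Fin 2) (ZMod p)) *ᵥ sec v := by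
    intro g hg
    induction hg using Subgroup.closure_induction with
    | mem g hg =>
      intro v hv
      rcases h2 g hg (v 0) (v 1) with h | h
      · exact absurd (h0 v h) hv
      · ext i; fin_cases i
        · simpa [sec, hc0, hc1] using h.1
        · simpa [sec, hc0, hc1] using h.2
    | one => intro v _; simp
    | mul g h _ _ ih1 ih2 => intro v hv; rw [hmul, hmul, ih1 _ (hne h v hv), ih2 v hv]
    | inv g _ ih =>
      intro v hv
      have := ih _ (hne g⁻¹ v hv)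
      rw [hinv'] at this
      rw [this, hinv]
  have he : (![1, 0] : Fin 2 → ZMod p) ≠ 0 := fun h => one_ne_zero (congrFun h 0)
  have hstab : ∀ g ∈ Subgroup.closure S, (g : Matrix (Fin 2) (Fin 2) (ZMod p)) *ᵥ ![1, 0] = ![1, 0] → g = 1 := by
    intro g hg e
    have e2 := hsec g hg _ he
    rw [e] at e2
    have a1 := congrFun e 0
    have a2 := congrFun e 1
    have a3 := congrFun e2 0
    have a4 := congrFun e2 1
    rw [hc0] at a1 a3
    rw [hc1] at a2 a4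
    simp only [sec, h1.1, h1.2, cons_val_zero, cons_val_one, mul_one, mul_zero, add_zero, zero_add] at a1 a2 a3 a4
    ext i j
    fin_cases i <;> fin_cases j <;> simp [a1, a2, ← a3, ← a4]
  have htr : ∀ n : ℕ, ∀ v : Fin 2 → ZMod p, v ≠ 0 → dep (v 0) (v 1) = n →
      ∃ g ∈ Subgroup.closure S, (g : Matrix (Fin 2) (Fin 2) (ZMod p)) *ᵥ v = ![1, 0] := by
    intro n
    induction n using Nat.strong_induction_on with
    | _ n ih =>
      intro v hv hn
      rcases h3 (v 0) (v 1) with h | h | ⟨g, hg, h⟩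
      · exact absurd (h0 v h) hv
      · refine ⟨1, Subgroup.one_mem _, ?_⟩
        ext i; fin_cases i <;> simp [h.1, h.2]
      · rw [← hc0, ← hc1, hn] at h
        obtain ⟨g', hg', e⟩ := ih _ h _ (hne g v hv) rfl
        exact ⟨g' * g, Subgroup.mul_mem _ hg' (Subgroup.subset_closure hg), by rw [hmul, e]⟩
  have main : ∀ v w : Fin 2 → ZMod p, v ≠ 0 → w ≠ 0 →
      ∃! h : Subgroup.closure S, mulVec ((h : GL (Fin 2) (ZMod p)) : Matrix (Fin 2) (Fin 2) (ZMod p)) v = w := by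
    intro v w hv hw
    obtain ⟨g, hg, e⟩ := htr _ v hv rfl
    obtain ⟨g', hg', e'⟩ := htr _ w hw rfl
    refine ⟨⟨g'⁻¹ * g, Subgroup.mul_mem _ (Subgroup.inv_mem _ hg') hg⟩, ?_, ?_⟩
    · change ((g'⁻¹ * g : GL (Fin 2) (ZMod p)) : Matrix (Fin 2) (Fin 2) (ZMod p)) *ᵥ v = w
      rw [hmul, e, ← e', hinv]
    · rintro ⟨k, hk⟩ ek
      apply Subtype.ext
      have := hstab (g' * k * g⁻¹) (Subgroup.mul_mem _ (Subgroup.mul_mem _ hg' hk)
        (Subgroup.inv_mem _ hg)) (by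
          rw [hmul, hmul]
          nth_rewrite 1 [← e]
          rw [hinv, ← e', ← ek])
      change k = g'⁻¹ * g
      rw [mul_inv_eq_one] at this
      rw [← this, inv_mul_cancel_left]
  refine ⟨?_, main⟩
  have : Nat.card (Subgroup.closure S) = Nat.card {v : Fin 2 → ZMod p // v ≠ 0} := by
    refine Nat.card_eq_of_bijective (fun h => ⟨((h : GL (Fin 2) (ZMod p)) : Matrix (Fin 2) (Fin 2) (ZMod p)) *ᵥ ![1, 0],
      hne _ _ he⟩) ⟨fun a b hab => ?_, fun w => ?_⟩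
    · exact (main _ _ he (hne _ _ he)).unique (congrArg Subtype.val hab) rfl
    · obtain ⟨h, e, -⟩ := main _ w.1 he w.2
      exact ⟨h, Subtype.ext e⟩
  rw [this, Nat.card_eq_fintype_card, Fintype.card_subtype_compl, Fintype.card_subtype_eq]
  simp [ZMod.card]

end Cfsg.Lib.Perm
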